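import Cfsg.Agent.DRG.Defs

/-! The derangement subgroup with equal subdegrees has small point stabilizers. -/

set_option autoImplicit false
set_option linter.unusedSectionVars false

namespace Cfsg.Lib.DRA

open MulAction Cfsg.Lib.Perm.Derange Subgroup Finset

variable {G Ω : Type*} [Group G] [Finite G] [MulAction G Ω] [Finite Ω] [IsPretransitive G Ω]

/-- `b` and `c` lie in the same orbit of the stabilizer of `a` in the derangement subgroup. -/
def Rl (G : Type*) [Group G] [MulAction G Ω] (a b c : Ω) : Prop :=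
  ∃ k ∈ der G Ω, k • a = a ∧ k • b = c

theorem Rl_eq_1' : type_of% @Rl.eq_1 := @Rl.eq_1

theorem Rl.smul {a b c : Ω} (h : Rl G a b c) (g : G) : Rl G (g • a) (g • b) (g • c) := by
  obtain ⟨k, hk, h1, h2⟩ := h
  exact ⟨g * k * g⁻¹, der_normal.conj_mem k hk g, by rw [mul_smul, inv_smul_smul, mul_smul, h1],
    by rw [mul_smul, inv_smul_smul, mul_smul, h2]⟩

theorem ncard_Rl (a b : Ω) :
    {w | Rl G a b w}.ncard = (stabilizer G b).relIndex (der G Ω ⊓ stabilizer G a) := by
  have : {w | Rl G a b w} = orbit (der G Ω ⊓ stabilizer G a : Subgroup G) b := by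
    ext w
    exact ⟨fun ⟨k, hk, h1, h2⟩ => ⟨⟨k, hk, h1⟩, h2⟩, fun ⟨k, h2⟩ => ⟨k, k.2.1, k.2.2, h2⟩⟩
  rw [this, ← index_stabilizer]
  rfl

theorem all_eq {δ : Ω} {e : ℕ} (h : ∀ b, b ≠ δ → {w | Rl G δ b w}.ncard = e) {a b : Ω}
    (hab : b ≠ a) : {w | Rl G a b w}.ncard = e := by
  obtain ⟨g, rfl⟩ := exists_smul_eq G δ a
  rw [← h (g⁻¹ • b) fun e => hab (by rw [← e, smul_inv_smul]),
    ← Set.ncard_image_of_injective _ (MulAction.injective g⁻¹)]
  congr 1
  ext w
  constructor
  · rintro ⟨w, hw, rfl⟩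
    have := Rl.smul hw g⁻¹
    rwa [inv_smul_smul] at this
  · intro hw
    refine ⟨g • w, ?_, inv_smul_smul g w⟩
    have := Rl.smul hw g
    rwa [smul_inv_smul] at this

theorem c_le {e : ℕ} (h : ∀ a b : Ω, b ≠ a → {w | Rl G a b w}.ncard = e) {β γ : Ω} (hne : γ ≠ β) :
    e * (der G Ω).index * {a | Rl G a β γ}.ncard ≤ (Nat.card Ω - 1) * (e - 1) := by
  classical
  have := Fintype.ofFinite Ω
  have h1 : (orbit (stabilizer G β) γ).toFinset.card = e * (der G Ω).index := by
    rw [← h β γ hne, ncard_Rl, ← card_orbit_eq_mul hne, Nat.card_coe_set_eq,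
      Set.ncard_eq_toFinset_card']
  have h2 : ∀ w ∈ (orbit (stabilizer G β) γ).toFinset, {a | Rl G a β γ}.ncard ≤
      ∑ a ∈ univ.erase β, if Rl G a β w then 1 else 0 := by
    intro w hw
    obtain ⟨g, rfl⟩ := Set.mem_toFinset.1 hw
    rw [← card_filter, ← Set.ncard_coe_finset]
    refine Set.ncard_le_ncard_of_injOn (fun a => (g : G) • a) (fun a ha => ?_)
      (MulAction.injective (g : G)).injOn
    have h3 := Rl.smul ha (g : G)
    have h4 : (g : G) • β = β := g.2
    rw [h4] at h3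
    refine mem_coe.2 (mem_filter.2 ⟨mem_erase.2 ⟨fun e => ?_, mem_univ _⟩, h3⟩)
    have : a = β := MulAction.injective (g : G) (e.trans h4.symm)
    obtain ⟨k, -, k1, k2⟩ := ha
    exact hne (by rw [← k2, ← this, k1])
  have h3 : ∀ a ∈ univ.erase β, (∑ w ∈ (orbit (stabilizer G β) γ).toFinset,
      if Rl G a β w then 1 else 0) ≤ e - 1 := by
    intro a ha
    have r0 : β ∈ {w | Rl G a β w} := ⟨1, one_mem _, one_smul _ _, one_smul _ _⟩
    rw [← card_filter, ← h a β (mem_erase.1 ha).1.symm, Set.ncard_eq_toFinset_card',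
      ← card_erase_of_mem (a := β) (Set.mem_toFinset.2 r0)]
    refine card_le_card fun w hw => mem_erase.2 ⟨?_, Set.mem_toFinset.2 (mem_filter.1 hw).2⟩
    obtain ⟨g, rfl⟩ := Set.mem_toFinset.1 (mem_filter.1 hw).1
    intro e
    have h4 : (g : G) • β = β := g.2
    exact hne (MulAction.injective (g : G) (e.trans h4.symm))
  calc e * (der G Ω).index * {a | Rl G a β γ}.ncard
      = ∑ w ∈ (orbit (stabilizer G β) γ).toFinset, {a | Rl G a β γ}.ncard := by
        rw [sum_const, h1, smul_eq_mul]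
    _ ≤ _ := sum_le_sum h2
    _ = _ := sum_comm
    _ ≤ ∑ a ∈ univ.erase β, (e - 1) := sum_le_sum h3
    _ = _ := by
        rw [sum_const, card_erase_of_mem (mem_univ _), card_univ, smul_eq_mul,
          Nat.card_eq_fintype_card]

theorem stab_lt (hf : ∀ g : G, (∀ ω : Ω, g • ω = ω) → g = 1) (h2 : 2 ≤ Nat.card Ω)
    (hsm : Nat.card Ω < ((der G Ω).index + 1) ^ 2) {δ : Ω} {e : ℕ}
    (h0 : ∀ b, b ≠ δ → {w | Rl G δ b w}.ncard = e) :
    Nat.card (der G Ω ⊓ stabilizer G δ : Subgroup G) < Nat.card Ω := by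
  classical
  have := Fintype.ofFinite Ω
  have := Fintype.ofFinite G
  have : Nonempty Ω := ⟨δ⟩
  have h : ∀ a b : Ω, b ≠ a → {w | Rl G a b w}.ncard = e := fun a b hab => all_eq h0 hab
  set m := (der G Ω).index with hm
  set H := der G Ω ⊓ stabilizer G δ with hH
  have m0 : 0 < m := Nat.pos_of_ne_zero index_ne_zero_of_finite
  obtain ⟨s, hs⟩ : m ∣ Nat.card Ω - 1 := index_dvd_card_sub_one
  have hsm' : s ≤ m + 1 := by
    by_contra hlt
    have : m * (m + 2) ≤ m * s := Nat.mul_le_mul_left _ (by omega)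
    have e1 : Nat.card Ω = m * s + 1 := by omega
    nlinarith
  obtain ⟨b, hb⟩ : ∃ b, b ≠ δ := by
    have : Nontrivial Ω := Finite.one_lt_card_iff_nontrivial.1 h2
    exact exists_ne δ
  have hcard : ∀ ω, ω ≠ δ → e * Nat.card (stabilizer G ω ⊓ H : Subgroup G) = Nat.card H := by
    intro ω hω
    rw [← h δ ω hω, ncard_Rl, ← inf_relIndex_right, relIndex, ← Nat.card_congr
      (subgroupOfEquivOfLe (inf_le_right : stabilizer G ω ⊓ H ≤ H)).toEquiv, index_mul_card]
  have e0 : 0 < e := by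
    have := hcard b hb
    have h1 : 0 < Nat.card H := Nat.card_pos
    exact Nat.pos_of_mul_pos_right (this ▸ h1) |> fun h => by
      rcases Nat.eq_zero_or_pos e with h' | h'
      · rw [h', zero_mul] at this; omega
      · exact h'
  have hes : e ≤ s := by
    have h1 : Nat.card (orbit (stabilizer G δ) b) = e * m := by
      rw [← h δ b hb, ncard_Rl, ← card_orbit_eq_mul hb]
    have h3 : Nat.card (orbit (stabilizer G δ) b) ≤ Nat.card Ω - 1 := by
      rw [Nat.card_coe_set_eq, Set.ncard_eq_toFinset_card', Nat.card_eq_fintype_card, ← card_univ,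
        ← card_erase_of_mem (mem_univ δ)]
      refine card_le_card fun w hw => mem_erase.2 ⟨?_, mem_univ _⟩
      obtain ⟨g, rfl⟩ := Set.mem_toFinset.1 hw
      intro e
      have h4 : (g : G) • δ = δ := g.2
      exact hb (MulAction.injective (g : G) (e.trans h4.symm))
    rw [h1, hs, mul_comm] at h3
    exact Nat.le_of_mul_le_mul_left h3 m0
  have hfix : ∀ u ∈ (univ.filter (· ∈ H)).erase 1, Nat.card (fixedBy Ω u) ≤ m := by
    intro u hu
    obtain ⟨β, hβ⟩ : ∃ β : Ω, u • β ≠ β := by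
      by_contra hc
      push Not at hc
      exact (mem_erase.1 hu).1 (hf u hc)
    have h1 := c_le h hβ
    have h3 : Nat.card (fixedBy Ω u) ≤ {a | Rl G a β (u • β)}.ncard := by
      rw [Nat.card_coe_set_eq]
      exact Set.ncard_le_ncard fun a ha => ⟨u, (mem_filter.1 (mem_erase.1 hu).2).2.1, ha, rfl⟩
    rw [← hm, hs] at h1
    by_contra hlt
    have h4 : s ≤ {a | Rl G a β (u • β)}.ncard := by omega
    have h5 : e * m * s ≤ m * s * (e - 1) := (Nat.mul_le_mul_left _ h4).trans h1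
    obtain ⟨e', rfl⟩ : ∃ e', e = e' + 1 := ⟨e - 1, by omega⟩
    rw [Nat.add_sub_cancel] at h5
    have : 0 < m * s := Nat.mul_pos m0 (by omega)
    nlinarith
  have up : ∑ u ∈ univ.filter (· ∈ H), Nat.card (fixedBy Ω u) ≤
      Nat.card Ω + (Nat.card H - 1) * m := by
    rw [← add_sum_erase _ _ (a := 1) (by simp [H.one_mem])]
    refine add_le_add (Nat.card_le_card_of_injective _ Subtype.val_injective) ?_
    refine (sum_le_card_nsmul _ _ _ hfix).trans (le_of_eq ?_)
    rw [card_erase_of_mem (by simp [H.one_mem]), card_filter_mem, smul_eq_mul]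
  have low : ∑ u ∈ univ.filter (· ∈ H), Nat.card (fixedBy Ω u) =
      ∑ ω : Ω, Nat.card (stabilizer G ω ⊓ H : Subgroup G) := by
    have k1 : ∀ u : G, Nat.card (fixedBy Ω u) = ∑ ω : Ω, if u • ω = ω then 1 else 0 := fun u => by
      rw [← card_filter, ← Nat.card_eq_finsetCard]
      exact Nat.card_congr (Equiv.subtypeEquivRight fun ω => by simp)
    simp only [k1]
    rw [sum_comm]
    refine sum_congr rfl fun ω _ => ?_
    rw [← card_filter, filter_filter, ← Nat.card_eq_finsetCard]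
    exact Nat.card_congr (Equiv.subtypeEquivRight fun u => by simp [and_comm])
  have low2 : e * ∑ ω : Ω, Nat.card (stabilizer G ω ⊓ H : Subgroup G) =
      e * Nat.card H + m * s * Nat.card H := by
    rw [← add_sum_erase _ _ (mem_univ δ), mul_add, mul_sum,
      sum_congr rfl fun ω hω => hcard ω (mem_erase.1 hω).1, sum_const,
      card_erase_of_mem (mem_univ _), card_univ, smul_eq_mul, ← Nat.card_eq_fintype_card, hs,
      inf_eq_right.2 (inf_le_right : H ≤ stabilizer G δ)]
  rw [low] at up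
  have k2 : e * ((m + 1) * Nat.card H) ≤ e * (Nat.card Ω + (Nat.card H - 1) * m) := by
    refine le_trans ?_ (Nat.mul_le_mul_left e up)
    rw [low2]
    have : m * e * Nat.card H ≤ m * s * Nat.card H := by gcongr
    nlinarith
  have k3 := Nat.le_of_mul_le_mul_left k2 e0
  obtain ⟨c, hc⟩ : ∃ c, Nat.card H = c + 1 := ⟨Nat.card H - 1, by have : 0 < Nat.card H := Nat.card_pos; omega⟩
  rw [hc, Nat.add_sub_cancel] at k3
  rw [hc]
  nlinarith

end Cfsg.Lib.DRA
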