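import Cfsg.Agent.DRA.F1
import Cfsg.Agent.DRG.C1
import Cfsg.Agent.DRG.C3
import Cfsg.Agent.DRG.T2

/-! A regular abelian Sylow subgroup of a derangement subgroup of large index is normal. -/

set_option autoImplicit false
set_option linter.unusedSectionVars false

namespace Cfsg.Lib.DRG

open MulAction Cfsg.Lib.Perm.Derange Subgroup Cfsg.Lib.DRA Cfsg.Lib.Char

theorem CS.fin_rank {H Ω : Type*} [Group H] [Fintype H] [MulAction H Ω] [Finite Ω] {Q : Subgroup H}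
    [Fintype Q] {δ : Ω} {e t : ℕ} {θ : Fin t → H → ℂ} (c : CS Q δ e t θ) :
    classInner (pc H Ω) (pc H Ω) = (t : ℂ) + 1 := by
  classical
  have e1 : pc H Ω = (fun _ => 1) + ∑ i, θ i := by
    funext g; rw [c.sum g]; simp
  have h1 : ∀ i, classInner (fun _ : H => (1 : ℂ)) (θ i) = 0 := fun i => by
    rw [isIrrCharacter_one.classInner_eq_ite (c.irr i), if_neg (c.ne1 i).symm]
  have h2 : ∀ i, classInner (θ i) (fun _ : H => (1 : ℂ)) = 0 := fun i => by
    rw [(c.irr i).classInner_eq_ite isIrrCharacter_one, if_neg (c.ne1 i)]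
  have h3 : ∀ i j, classInner (θ i) (θ j) = if i = j then 1 else 0 := fun i j => by
    rw [(c.irr i).classInner_eq_ite (c.irr j)]
    simp only [c.inj.eq_iff]
  rw [e1, classInner_add_left, classInner_add_right, classInner_add_right, classInner_sum_right,
    classInner_sum_left, classInner_sum_left, isIrrCharacter_one.classInner_self]
  simp only [classInner_sum_right, h1, h2, h3]
  simp [add_comm]

variable {G Ω : Type*} [Group G] [Finite G] [MulAction G Ω] [Finite Ω] [IsPretransitive G Ω]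
  {Q : Subgroup G} {δ : Ω} {q : ℕ}

theorem Reg.fin_deg (h : Reg Q δ q) : ∃ e : ℕ, ∀ b, b ≠ δ → {w | Rl G δ b w}.ncard = e := by
  classical
  have := Fintype.ofFinite (der G Ω)
  have := Fintype.ofFinite (Q.subgroupOf (der G Ω))
  obtain ⟨e, t, th⟩ := h.th
  obtain ⟨θ, c⟩ := th.cs
  refine ⟨e, fun b hb => ?_⟩
  obtain ⟨x, hx, rfl⟩ := th.tr b
  have hx1 : x ≠ 1 := fun e => hb (by rw [e, one_smul])
  have e1 : {w | Rl G δ (x • δ) w} =
      Set.range fun b : EE (Q.subgroupOf (der G Ω)) δ => (b : der G Ω) • x • δ := by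
    ext w
    constructor
    · rintro ⟨k, hk, h1, rfl⟩
      obtain ⟨b, hb, e⟩ := th.rank c.fin_rank (k := ⟨k, hk⟩) h1 hx
      refine ⟨⟨b, hb⟩, ?_⟩
      have h2 : b⁻¹ • δ = δ := inv_smul_eq_iff.2 (hb.2 : b • δ = δ).symm
      rw [mul_smul, mul_smul, h2] at e
      exact e.symm
    · rintro ⟨b, rfl⟩
      exact ⟨(b : der G Ω), (b : der G Ω).2, b.2.2, rfl⟩
  rw [e1, ← th.cE, ← Nat.card_coe_set_eq]
  refine Nat.card_range_of_injective fun b b' e => ?_
  have hm : (b : der G Ω)⁻¹ * b' ∈ EE (Q.subgroupOf (der G Ω)) δ := mul_mem (inv_mem b.2) b'.2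
  obtain ⟨k, hk⟩ : ∃ k, k = (b : der G Ω)⁻¹ * b' := ⟨_, rfl⟩
  rw [← hk] at hm
  have h1 : k • x • δ = x • δ := by
    rw [hk, mul_smul, inv_smul_eq_iff]; exact e.symm
  have h2 : k⁻¹ • δ = δ := inv_smul_eq_iff.2 (hm.2 : k • δ = δ).symm
  have h3 : x⁻¹ * (k * x * k⁻¹) = 1 := by
    refine th.reg _ (mul_mem (inv_mem hx) ((mem_normalizer_iff.1 hm.1 x).1 hx)) δ ?_
    rw [mul_smul, mul_smul, mul_smul, h2, h1, inv_smul_smul]
  have h4 : k = 1 := th.semi hm hx hx1 (by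
    rw [← mul_inv_eq_iff_eq_mul.1 (inv_mul_eq_one.1 h3).symm])
  exact Subtype.ext (inv_mul_eq_one.1 (hk ▸ h4))

theorem Reg.nrm (h : Reg Q δ q) : Q.Normal := by
  obtain ⟨e, he⟩ := h.fin_deg
  have h1 := stab_lt h.fai h.two h.sm he
  have hn : Nat.card Q = Nat.card Ω := by
    refine Nat.card_congr (Equiv.ofBijective (fun x : Q => (x : G) • δ) ⟨fun x y e => ?_, fun ω => ?_⟩)
    · refine Subtype.ext (inv_mul_eq_one.1 (h.reg _ (mul_mem (inv_mem x.2) y.2) δ ?_))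
      rw [mul_smul, inv_smul_eq_iff]; exact e.symm
    · obtain ⟨x, hx, e⟩ := h.tr ω
      exact ⟨⟨x, hx⟩, e⟩
  have h2 : Nat.card (der G Ω) ≤ Nat.card Q * Nat.card (der G Ω ⊓ stabilizer G δ : Subgroup G) := by
    rw [← Nat.card_prod]
    refine Nat.card_le_card_of_surjective
      (fun p => ⟨p.1 * p.2, mul_mem (h.le p.1.2) p.2.2.1⟩) fun d => ?_
    obtain ⟨x, hx, e⟩ := h.tr ((d : G) • δ)
    refine ⟨⟨⟨x, hx⟩, ⟨x⁻¹ * d, mem_inf.2 ⟨mul_mem (inv_mem (h.le hx)) d.2, ?_⟩⟩⟩, Subtype.ext ?_⟩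
    · change (x⁻¹ * d) • δ = δ
      rw [mul_smul, ← e, inv_smul_smul]
    · exact mul_inv_cancel_left x d
  refine ⟨fun y hy g => ?_⟩
  have h3 : ∃ x ∈ Q, x ≠ 1 ∧ g * x * g⁻¹ ∈ Q := by
    by_contra hc
    push Not at hc
    have h4 : Nat.card Q * Nat.card Q ≤ Nat.card (der G Ω) := by
      rw [← Nat.card_prod]
      refine Nat.card_le_card_of_injective (fun p => ⟨p.1 * (g * p.2 * g⁻¹),
        mul_mem (h.le p.1.2) (der_normal.conj_mem _ (h.le p.2.2) g)⟩) ?_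
      rintro ⟨a, b⟩ ⟨a', b'⟩ e
      have e1 : (a : G) * (g * b * g⁻¹) = a' * (g * b' * g⁻¹) := congrArg Subtype.val e
      have e2 : g * ((b : G) * (b' : G)⁻¹) * g⁻¹ = (a : G)⁻¹ * a' := by
        calc g * ((b : G) * (b' : G)⁻¹) * g⁻¹
            = (a : G)⁻¹ * (a * (g * b * g⁻¹)) * (g * b' * g⁻¹)⁻¹ := by group
          _ = _ := by rw [e1]; group
      have e3 : (b : G) * (b' : G)⁻¹ = 1 := by
        by_contra hne
        exact hc _ (mul_mem b.2 (inv_mem b'.2)) hne (e2 ▸ mul_mem (inv_mem a.2) a'.2)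
      have e4 : b = b' := Subtype.ext (mul_inv_eq_one.1 e3)
      subst e4
      exact Prod.ext (Subtype.ext (mul_right_cancel e1)) rfl
    have h5 := Nat.le_of_mul_le_mul_left (h4.trans h2) Nat.card_pos
    omega
  obtain ⟨x, hx, hx1, hgx⟩ := h3
  refine h.cent hgx (fun e => hx1 ?_) ?_
  · calc x = g⁻¹ * (g * x * g⁻¹) * g := by group
      _ = 1 := by rw [e]; group
  · calc g * y * g⁻¹ * (g * x * g⁻¹) = g * (y * x) * g⁻¹ := by group
      _ = _ := by rw [h.ab y hy x hx]; group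

end Cfsg.Lib.DRG
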