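import Cfsg.Agent.Perm.Derange
import Mathlib.Analysis.Real.Sqrt

/-! Derangement subgroup: the imprimitive case, and the passage from an affine primitive
group to the linear situation. -/

set_option autoImplicit false

namespace Cfsg.Lib.DRA

open MulAction Cfsg.Lib.Perm.Derange
open scoped Pointwise

variable {G Ω : Type*} [Group G] [MulAction G Ω]

/-- imprimitive transitive groups. -/
theorem imp [Finite G] [Finite Ω] [IsPretransitive G Ω] (h : ¬ IsPreprimitive G Ω) :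
    ((der G Ω).index + 1) ^ 2 ≤ Nat.card Ω := by
  classical
  have : ∃ B : Set Ω, IsBlock G B ∧ ¬ IsTrivialBlock B := by
    by_contra! hh
    exact h ⟨fun hB => hh _ hB⟩
  obtain ⟨B, hB, hT⟩ := this
  unfold IsTrivialBlock at hT
  push Not at hT
  obtain ⟨hs, hu⟩ := hT
  obtain ⟨a, ha, c, hc, hac⟩ := hs
  have : Nonempty Ω := ⟨a⟩
  have h1 : (der G Ω).index ∣ (B \ {a}).ncard := by
    refine index_dvd_ncard (a := a) (by simp) fun g hg x hx => ⟨?_, fun hh => hx.2 ?_⟩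
    · have e : g • B = B := hB.smul_eq_of_mem ha (by rw [hg]; exact ha)
      rw [← e]
      exact Set.smul_mem_smul_set hx.1
    · exact smul_left_cancel g ((Set.mem_singleton_iff.mp hh).trans hg.symm)
  rw [Set.ncard_sdiff_singleton_of_mem ha] at h1
  have h2 := index_dvd_card_sub_one (G := G) (Ω := Ω)
  obtain ⟨k, hk⟩ := hB.ncard_dvd_card ⟨a, ha⟩
  have hb : 2 ≤ B.ncard := (Set.one_lt_ncard (Set.toFinite B)).2 ⟨a, ha, c, hc, hac⟩
  have hlt : B.ncard < Nat.card Ω := by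
    rw [← Set.ncard_univ]
    exact Set.ncard_lt_ncard (Set.ssubset_univ_iff.mpr hu) (Set.toFinite _)
  set m := (der G Ω).index
  obtain ⟨b, hb'⟩ : ∃ b, B.ncard = b + 1 := ⟨B.ncard - 1, by omega⟩
  have hk2 : 2 ≤ k := by
    by_contra! hh
    interval_cases k <;> omega
  obtain ⟨j, rfl⟩ : ∃ j, k = j + 1 := ⟨k - 1, by omega⟩
  rw [hb'] at h1 hk hb
  rw [hk] at h2 ⊢
  simp only [Nat.add_sub_cancel] at h1
  have e : (b + 1) * (j + 1) - 1 = b * (j + 1) + j := by
    rw [Nat.sub_eq_iff_eq_add (Nat.mul_pos (by omega) (by omega))]; ring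
  rw [e] at h2
  have h3 : m ∣ j := (Nat.dvd_add_right (Dvd.dvd.mul_right h1 _)).1 h2
  have h4 := Nat.le_of_dvd (by omega) h1
  have h5 := Nat.le_of_dvd (by omega) h3
  rw [pow_two]
  exact Nat.mul_le_mul (by omega) (by omega)

/-- the real form of the bound. -/
theorem real_form {m n : ℕ} (h : (m + 1) ^ 2 ≤ n) : (m : ℝ) ≤ Real.sqrt n - 1 := by
  have : (m : ℝ) + 1 ≤ Real.sqrt n := by
    apply Real.le_sqrt_of_sq_le
    exact_mod_cast h
  linarith

theorem nat_form {m n : ℕ} (h : (m : ℝ) ≤ Real.sqrt n - 1) : (m + 1) ^ 2 ≤ n := by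
  have h1 : (m : ℝ) + 1 ≤ Real.sqrt n := by linarith
  have h2 : ((m : ℝ) + 1) ^ 2 ≤ n := by
    rw [← Real.sq_sqrt (Nat.cast_nonneg n)]
    exact pow_le_pow_left₀ (by positivity) h1 2
  exact_mod_cast h2

/-- semiregular: the index is one. -/
theorem index_one [Nontrivial Ω] (h : ∀ g : G, g ≠ 1 → ∀ ω : Ω, g • ω ≠ ω) :
    (der G Ω).index = 1 := by
  rw [Subgroup.index_eq_one, eq_top_iff]
  intro g _
  by_cases hg : g = 1
  · rw [hg]; exact one_mem _
  · exact Subgroup.subset_closure (h g hg)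

/-- The linear data attached to an affine primitive group which is neither regular nor
Frobenius. -/
theorem aff_data [Finite G] [Finite Ω] [FaithfulSMul G Ω] [IsPreprimitive G Ω]
    (V : Subgroup G) [V.Normal] (hab : ∀ x ∈ V, ∀ y ∈ V, x * y = y * x) (hV : V ≠ ⊥)
    (hnf : ∃ g : G, g ≠ 1 ∧ 1 < Nat.card (fixedBy Ω g)) :
    ∃ L : Subgroup G, Nat.card V = Nat.card Ω ∧ (der G Ω).relIndex L = (der G Ω).index ∧
      (∀ g ∈ L, (∀ v ∈ V, g * v = v * g) → g = 1) ∧
      (∀ g ∈ L, g ∉ der G Ω → ∀ v ∈ V, g * v = v * g → v = 1) ∧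
      (∃ y ∈ L, y ∈ der G Ω ∧ y ≠ 1 ∧ ∃ v ∈ V, v ≠ 1 ∧ y * v = v * y) := by
  classical
  obtain ⟨y, hy1, hy⟩ := hnf
  obtain ⟨⟨a, ha⟩, ⟨b, hb⟩, hab'⟩ := Finite.one_lt_card_iff_nontrivial.mp hy
  have hne : a ≠ b := fun e => hab' (Subtype.ext e)
  have htr : IsPretransitive V Ω := by
    refine IsQuasiPreprimitive.isPretransitive_of_normal ?_
    intro hfix
    apply hV
    rw [eq_bot_iff]
    intro v hv
    rw [Subgroup.mem_bot]
    refine FaithfulSMul.eq_of_smul_eq_smul (α := Ω) fun ω => ?_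
    have : ω ∈ fixedPoints V Ω := hfix ▸ Set.mem_univ ω
    rw [one_smul]
    exact this ⟨v, hv⟩
  have tr : ∀ ω : Ω, ∃ v ∈ V, v • a = ω := fun ω => by
    obtain ⟨⟨v, hv⟩, e⟩ := htr.exists_smul_eq a ω
    exact ⟨v, hv, e⟩
  have fai : ∀ g : G, g • a = a → (∀ v ∈ V, g * v = v * g) → g = 1 := by
    intro g hg hc
    refine FaithfulSMul.eq_of_smul_eq_smul (α := Ω) fun ω => ?_
    obtain ⟨v, hv, rfl⟩ := tr ω
    rw [one_smul, ← mul_smul, hc v hv, mul_smul, hg]
  have reg : ∀ v ∈ V, v • a = a → v = 1 := fun v hv e => fai v e fun w hw => hab v hv w hw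
  refine ⟨stabilizer G a, ?_, relIndex_der a, fun g hg => fai g hg, ?_, ?_⟩
  · refine Nat.card_congr (Equiv.ofBijective (fun v : V => (v : G) • a) ⟨?_, ?_⟩)
    · intro v w e
      have : (w : G)⁻¹ * v = 1 := reg _ (mul_mem (inv_mem w.2) v.2) (by
        rw [mul_smul, inv_smul_eq_iff]; exact e)
      exact Subtype.ext (inv_mul_eq_one.mp this).symm
    · intro ω
      obtain ⟨v, hv, e⟩ := tr ω
      exact ⟨⟨v, hv⟩, e⟩
  · intro g hg hgD v hv hc
    by_contra hv1
    refine hgD (mem_der_of_fix_two (a := a) (b := v • a) (fun e => hv1 (reg v hv e.symm)) hg ?_)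
    rw [← mul_smul, hc, mul_smul, mem_stabilizer_iff.mp hg]
  · obtain ⟨v, hv, rfl⟩ := tr b
    have ha' : y • a = a := ha
    have hb' : y • v • a = v • a := hb
    refine ⟨y, ha', mem_der_of_fix_two hne ha' hb', hy1, v, hv, ?_, ?_⟩
    · rintro rfl
      exact hne (one_smul _ _).symm
    · have hm : v⁻¹ * (y * v * y⁻¹) ∈ V :=
        mul_mem (inv_mem hv) (Subgroup.Normal.conj_mem inferInstance v hv y)
      have := reg _ hm (by
        rw [mul_smul, inv_smul_eq_iff, mul_smul, mul_smul, inv_smul_eq_iff.mpr ha'.symm, hb'])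
      rw [inv_mul_eq_one] at this
      exact mul_inv_eq_iff_eq_mul.mp this.symm

end Cfsg.Lib.DRA
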